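import Mathlib

/-!
Counts in the alternating group of degree six.
-/

set_option autoImplicit false

namespace Cfsg.Agent.AltSix

open Equiv

theorem orders6 : ∀ σ : Perm (Fin 6), Perm.sign σ = 1 →
    (σ ^ 2 = 1 ∨ σ ^ 3 = 1 ∨ σ ^ 4 = 1 ∨ σ ^ 5 = 1) := by decide +kernel

theorem count3 : (Finset.univ.filter fun σ : Perm (Fin 6) => σ ^ 3 = 1).card = 81 := by decide +kernel

theorem count5 : (Finset.univ.filter fun σ : Perm (Fin 6) => σ ^ 5 = 1).card = 145 := by decide +kernel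

theorem cent2 (σ : Perm (Fin 6)) (hs : Perm.sign σ = 1) (h : σ ^ 2 = 1) (h1 : σ ≠ 1) :
    (Finset.univ.filter fun w : Perm (Fin 6) => Perm.sign w = 1 ∧ σ * w = w * σ).card ≤ 8 := by
  revert σ; decide +kernel

theorem cent3 (σ : Perm (Fin 6)) (h : σ ^ 3 = 1) (h1 : σ ≠ 1) :
    (Finset.univ.filter fun w : Perm (Fin 6) => Perm.sign w = 1 ∧ σ * w = w * σ).card ≤ 9 := by
  revert σ; decide +kernel

theorem cent5 (σ : Perm (Fin 6)) (h : σ ^ 5 = 1) (h1 : σ ≠ 1) :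
    (Finset.univ.filter fun w : Perm (Fin 6) => Perm.sign w = 1 ∧ σ * w = w * σ).card ≤ 5 := by
  revert σ; decide +kernel

end Cfsg.Agent.AltSix
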