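import Cfsg.Agent.Lib.Struct.NilpotentCover
import Mathlib.GroupTheory.Perm.Sign
import Mathlib.Data.ZMod.Basic
import Mathlib.GroupTheory.GroupAction.Pointwise
import Mathlib.GroupTheory.SpecificGroups.Alternating
import Mathlib.Tactic.LinearCombination
import Mathlib.Tactic.IntervalCases
import Mathlib.Tactic.Abel
import Mathlib.Tactic.Ring
import Mathlib.Tactic.NormNum
import Mathlib.Data.Set.Card

/-!
Alternating and symmetric groups have no cover by fewest proper subgroups consisting of nilpotent subgroups: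
two long cycles on the same points have separated centralisers inside the stabiliser of those points.
-/

set_option autoImplicit false

namespace Cfsg.Agent.AltNoNilCover

open Equiv
open scoped Pointwise

variable {a b : ℕ} [NeZero a]

local notation "Pt" => ZMod a ⊕ Fin b

def rot : Perm Pt := Equiv.sumCongr (Equiv.addRight 1) (Equiv.refl _)

def tw : Perm Pt := Equiv.sumCongr (Equiv.swap 0 1) (Equiv.refl _)

theorem one_ne (ha : 4 ≤ a) : ∀ m : ℕ, 0 < m → m < 4 → (m : ZMod a) ≠ 0 := fun m h0 h4 h => by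
  have := Nat.le_of_dvd h0 ((ZMod.natCast_eq_zero_iff m a).mp h)
  omega

theorem shift_of_comm (ha : 4 ≤ a) {z : Perm Pt} (h : Commute z rot) :
    ∃ k : ZMod a, (∀ i, z (Sum.inl i) = Sum.inl (i + k)) ∧ ∀ s, ∃ s', z (Sum.inr s) = Sum.inr s' := by
  have h1 : ∀ p, z (rot p) = rot (z p) := fun p => Equiv.congr_fun h.eq p
  have hne : (1 : ZMod a) ≠ 0 := by simpa using one_ne ha 1 (by norm_num) (by norm_num)
  have hl : ∀ i, ∃ j, z (Sum.inl i) = Sum.inl j := by
    intro i
    rcases hz : z (Sum.inl i) with j | s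
    · exact ⟨j, rfl⟩
    · have := h1 (Sum.inl i)
      rw [hz] at this
      have e : z (rot (Sum.inl i)) = z (Sum.inl i) := this.trans (by rw [hz]; rfl)
      have := Sum.inl.inj (z.injective e)
      exact absurd (by simpa using this) hne
  obtain ⟨k, hk⟩ := hl 0
  refine ⟨k, fun i => ?_, fun s => ?_⟩
  · obtain ⟨m, rfl⟩ := ZMod.natCast_zmod_surjective i
    induction m with
    | zero => simp [hk]
    | succ m ih =>
      have := h1 (Sum.inl (m : ZMod a))
      rw [ih] at this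
      simp [rot] at this
      rw [Nat.cast_succ, this]
      congr 1
      abel
  · rcases hz : z (Sum.inr s) with j | s'
    · have := h1 (Sum.inr s)
      rw [show rot (Sum.inr s : Pt) = Sum.inr s from rfl, hz] at this
      simp [rot] at this
      exact absurd this hne
    · exact ⟨s', rfl⟩

theorem swap_shift (ha : 4 ≤ a) {k k' : ZMod a}
    (h : ∀ i, Equiv.swap (0 : ZMod a) 1 (Equiv.swap (0 : ZMod a) 1 i + k) = i + k') : k = 0 := by
  have n1 : (1 : ZMod a) ≠ 0 := by simpa using one_ne ha 1 (by norm_num) (by norm_num)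
  have n2 : (2 : ZMod a) ≠ 0 := by simpa using one_ne ha 2 (by norm_num) (by norm_num)
  have n3 : (3 : ZMod a) ≠ 0 := by simpa using one_ne ha 3 (by norm_num) (by norm_num)
  have e0 := h 0
  have e1 := h 1
  rw [Equiv.swap_apply_left] at e0
  rw [Equiv.swap_apply_right, zero_add] at e1
  have s2 : Equiv.swap (0 : ZMod a) 1 2 = 2 := Equiv.swap_apply_of_ne_of_ne n2
    (fun e => n1 (by linear_combination e))
  by_contra hk
  by_cases hk1 : k = 1
  · subst hk1
    rw [show (1 : ZMod a) + 1 = 2 by norm_num, s2] at e0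
    rw [Equiv.swap_apply_right] at e1
    exact n3 (by linear_combination e0 - e1)
  by_cases hk2 : k + 1 = 0
  · rw [show (1 : ZMod a) + k = 0 by rw [add_comm]; exact hk2, Equiv.swap_apply_left] at e0
    rw [Equiv.swap_apply_of_ne_of_ne hk hk1] at e1
    exact n3 (by linear_combination hk2 - e1 + e0)
  rw [Equiv.swap_apply_of_ne_of_ne (fun e => hk2 (by linear_combination e))
    (fun e => hk (by linear_combination e))] at e0
  rw [Equiv.swap_apply_of_ne_of_ne hk hk1] at e1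
  exact n2 (by linear_combination e0 - e1)

theorem addRight_pow (k : ZMod a) : (Equiv.addRight k : Perm (ZMod a)) ^ a = 1 := by
  have : ∀ m : ℕ, ∀ i, ((Equiv.addRight k : Perm (ZMod a)) ^ m) i = i + m * k := by
    intro m
    induction m with
    | zero => simp
    | succ m ih => intro i; rw [pow_succ, Perm.mul_apply, ih]; simp; ring
  ext i
  simp [this]

theorem conj_addRight_pow (k : ZMod a) :
    (Equiv.swap (0 : ZMod a) 1 * Equiv.addRight k * Equiv.swap 0 1 : Perm (ZMod a)) ^ a = 1 := by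
  have h := conj_pow (i := a) (a := Equiv.swap (0 : ZMod a) 1) (b := (Equiv.addRight k : Perm (ZMod a)))
  rw [Equiv.swap_inv, addRight_pow, mul_one, Equiv.swap_mul_self] at h
  exact h

variable {G : Type*} [Group G]

theorem no_cover (ha : 4 ≤ a) (ι : G →* Perm Pt) (hι : Function.Injective ι) {x x' : G} (hx : ι x = rot)
    (hx' : ι x' = tw * rot * tw)
    (hfix : ∀ z : G, ∀ π : Perm (ZMod a), π ^ a = 1 → (∀ i, ι z (Sum.inl i) = Sum.inl (π i)) →
      (∀ s, ∃ s', ι z (Sum.inr s) = Sum.inr s') → ∀ s, ι z (Sum.inr s) = Sum.inr s)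
    {w : G} {s0 : Fin b} {i0 : ZMod a} (hw : ι w (Sum.inr s0) = Sum.inl i0) :
    ¬ ∃ 𝓐 : Finset (Subgroup G), ((∀ A ∈ 𝓐, A ≠ ⊤) ∧ (∀ g : G, ∃ A ∈ 𝓐, g ∈ A)) ∧
      (∀ 𝓑 : Finset (Subgroup G), (∀ A ∈ 𝓑, A ≠ ⊤) ∧ (∀ g : G, ∃ A ∈ 𝓑, g ∈ A) → 𝓐.card ≤ 𝓑.card) ∧
        (∀ A ∈ 𝓐, Group.IsNilpotent ↥A) := by
  classical
  have htt : (tw : Perm Pt) * tw = 1 := by
    ext p; rcases p with i | s <;> simp [tw]
  have hx1 : x ≠ 1 := fun e => by
    have := Equiv.congr_fun (hx.symm.trans (by rw [e, map_one])) (Sum.inl (0 : ZMod a))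
    simp [rot] at this
    exact (show (1 : ZMod a) ≠ 0 by simpa using one_ne ha 1 (by norm_num) (by norm_num)) this
  have hx'1 : x' ≠ 1 := fun e => by
    rw [e, map_one] at hx'
    refine hx1 (hι ?_)
    rw [hx, map_one]
    calc (rot : Perm Pt) = tw * tw * rot * (tw * tw) := by rw [htt, one_mul, mul_one]
      _ = tw * (tw * rot * tw) * tw := by simp only [mul_assoc]
      _ = 1 := by rw [← hx', mul_one, htt]
  -- what commutes with the cycles
  have cx : ∀ {z : G}, Commute z x → ∃ k : ZMod a, (∀ i, ι z (Sum.inl i) = Sum.inl (i + k)) ∧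
      (∀ s, ι z (Sum.inr s) = Sum.inr s) := fun {z} hz => by
    obtain ⟨k, h1, h2⟩ := shift_of_comm ha (hx ▸ hz.map ι)
    exact ⟨k, h1, hfix z (Equiv.addRight k) (addRight_pow k) h1 h2⟩
  have cx' : ∀ {z : G}, Commute z x' → ∃ k : ZMod a,
      (∀ i, ι z (Sum.inl i) = Sum.inl (Equiv.swap 0 1 (Equiv.swap (0 : ZMod a) 1 i + k))) ∧
      (∀ s, ι z (Sum.inr s) = Sum.inr s) := fun {z} hz => by
    have h : Commute (tw * ι z * tw) (rot : Perm Pt) := by
      have h0 : ι z * (tw * rot * tw) = tw * rot * tw * ι z := hx' ▸ (hz.map ι).eq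
      show tw * ι z * tw * rot = rot * (tw * ι z * tw)
      calc tw * ι z * tw * rot = tw * (ι z * (tw * rot * tw)) * tw := by
            simp only [mul_assoc]; rw [htt, mul_one]
        _ = tw * (tw * rot * tw * ι z) * tw := by rw [h0]
        _ = rot * (tw * ι z * tw) := by simp only [← mul_assoc]; rw [htt, one_mul]
    obtain ⟨k, h1, h2⟩ := shift_of_comm ha h
    have hrw : ι z = tw * (tw * ι z * tw) * tw := by
      simp only [← mul_assoc]; rw [htt, one_mul, mul_assoc, htt, mul_one]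
    have hl : ∀ i, ι z (Sum.inl i) = Sum.inl (Equiv.swap 0 1 (Equiv.swap (0 : ZMod a) 1 i + k)) := fun i => by
      rw [hrw, Perm.mul_apply, Perm.mul_apply, show (tw : Perm Pt) (Sum.inl i) = Sum.inl (Equiv.swap 0 1 i) from rfl,
        h1]
      rfl
    refine ⟨k, hl, hfix z _ (conj_addRight_pow k) hl fun s => ?_⟩
    obtain ⟨s', hs'⟩ := h2 s
    refine ⟨s', ?_⟩
    rw [hrw, Perm.mul_apply, Perm.mul_apply, show (tw : Perm Pt) (Sum.inr s) = Sum.inr s from rfl, hs']
    rfl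
  have hsep0 : ∀ z : G, Commute z x → Commute z x' → z = 1 := by
    intro z h h'
    obtain ⟨k, h1, h2⟩ := cx h
    obtain ⟨k', h1', -⟩ := cx' h'
    have hk : k' = 0 := swap_shift ha fun i => Sum.inl.inj ((h1' i).symm.trans (h1 i))
    refine hι ?_
    rw [map_one]
    ext p
    rcases p with i | s
    · rw [h1' i, hk, add_zero, Equiv.swap_apply_self]; rfl
    · rw [h2 s]; rfl
  let R : Set Pt := Set.range Sum.inr
  let H : Subgroup G := (MulAction.stabilizer (Perm Pt) R).comap ι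
  have hH : H ≠ ⊤ := fun h => by
    have hm : ι w • R = R := MulAction.mem_stabilizer_iff.mp (show w ∈ H from h ▸ Subgroup.mem_top w)
    have : ι w (Sum.inr s0) ∈ ι w • R := Set.smul_mem_smul_set ⟨s0, rfl⟩
    rw [hm, hw] at this
    obtain ⟨s, hs⟩ := this
    exact Sum.inr_ne_inl hs
  have hmemH : ∀ g : G, (∀ s, ∃ s', ι g (Sum.inr s) = Sum.inr s') → g ∈ H := fun g hg => by
    show ι g • R = R
    refine Set.eq_of_subset_of_ncard_le ?_ ?_ (Set.toFinite _)
    · rintro _ ⟨_, ⟨s, rfl⟩, rfl⟩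
      obtain ⟨s', hs'⟩ := hg s
      exact ⟨s', hs'.symm⟩
    · rw [show ι g • R = (ι g) '' R from rfl, Set.ncard_image_of_injective _ (ι g).injective]
  -- centralisers of what commutes with either cycle
  have good : ∀ z : G, z ≠ 1 → (Commute z x ∨ Commute z x') → ∀ g : G, Commute g z → g ∈ H := by
    intro z hz hc g hg
    have key : ∀ i, ι z (Sum.inl i) ≠ Sum.inl i := by
      rcases hc with hc | hc
      · obtain ⟨k, h1, h2⟩ := cx hc
        intro i hi
        rw [h1 i] at hi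
        have hk : k = 0 := by simpa using Sum.inl.inj hi
        refine hz (hι ?_)
        rw [map_one]
        ext p
        rcases p with i | s
        · rw [h1 i, hk, add_zero]; rfl
        · rw [h2 s]; rfl
      · obtain ⟨k, h1, h2⟩ := cx' hc
        intro i hi
        rw [h1 i] at hi
        have hk : k = 0 := by
          have := congrArg (Equiv.swap (0 : ZMod a) 1) (Sum.inl.inj hi)
          rwa [Equiv.swap_apply_self, add_eq_left] at this
        refine hz (hι ?_)
        rw [map_one]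
        ext p
        rcases p with i | s
        · rw [h1 i, hk, add_zero, Equiv.swap_apply_self]; rfl
        · rw [h2 s]; rfl
    have hfixed : ∀ s, ι z (Sum.inr s) = Sum.inr s := by
      rcases hc with hc | hc
      · obtain ⟨k, -, h2⟩ := cx hc
        exact h2
      · obtain ⟨k, -, h2⟩ := cx' hc
        exact h2
    refine hmemH g fun s => ?_
    rcases he : ι g (Sum.inr s) with i | s'
    · refine absurd ?_ (key i)
      have := Equiv.congr_fun (hg.map ι).eq (Sum.inr s)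
      rw [Perm.mul_apply, Perm.mul_apply, hfixed s, he] at this
      exact this.symm
    · exact ⟨s', rfl⟩
  refine NilpotentCover.no_minimal_cover {H} {x, x'} ?_ ?_ ?_ ?_ ?_
  · intro K hK
    rw [Finset.mem_singleton.mp hK]
    exact hH
  · simp [Ne.symm hx1, Ne.symm hx'1]
  · intro y hy y' hy' z hz h h'
    simp only [Finset.mem_insert, Finset.mem_singleton] at hy hy'
    rcases hy with rfl | rfl <;> rcases hy' with rfl | rfl
    exacts [rfl, absurd (hsep0 z h h') hz, absurd (hsep0 z h' h) hz, rfl]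
  · intro y hy z hz h g hg
    simp only [Finset.mem_insert, Finset.mem_singleton] at hy
    refine ⟨H, Finset.mem_singleton_self _, good z hz ?_ g hg⟩
    rcases hy with rfl | rfl
    exacts [Or.inl h, Or.inr h]
  · rw [Finset.card_singleton, Finset.card_insert_of_notMem, Finset.card_singleton]
    · norm_num
    · exact fun e => hx1 (hsep0 x (Commute.refl _) (Finset.mem_singleton.mp e ▸ Commute.refl x))

end Cfsg.Agent.AltNoNilCover

namespace Cfsg.Agent.AltNoNilCover

open Equiv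

/-- Decidable small cases: one subgroup against two elements. -/
theorem small {G : Type*} [Group G] (H : Subgroup G) (hH : H ≠ ⊤) (x x' : G) (hx : x ≠ 1) (hx' : x' ≠ 1)
    (hne : x ≠ x') (h : ∀ z : G, z ≠ 1 → Commute z x → ¬ Commute z x' ∧ ∀ a : G, Commute a z → a ∈ H)
    (h' : ∀ z : G, z ≠ 1 → Commute z x' → ∀ a : G, Commute a z → a ∈ H) :
    ¬ ∃ 𝓐 : Finset (Subgroup G), ((∀ A ∈ 𝓐, A ≠ ⊤) ∧ (∀ g : G, ∃ A ∈ 𝓐, g ∈ A)) ∧
      (∀ 𝓑 : Finset (Subgroup G), (∀ A ∈ 𝓑, A ≠ ⊤) ∧ (∀ g : G, ∃ A ∈ 𝓑, g ∈ A) → 𝓐.card ≤ 𝓑.card) ∧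
        (∀ A ∈ 𝓐, Group.IsNilpotent ↥A) := by
  classical
  refine NilpotentCover.no_minimal_cover {H} {x, x'} ?_ ?_ ?_ ?_ ?_
  · intro K hK
    rw [Finset.mem_singleton.mp hK]
    exact hH
  · simp [Ne.symm hx, Ne.symm hx']
  · intro y hy y' hy' z hz k k'
    simp only [Finset.mem_insert, Finset.mem_singleton] at hy hy'
    rcases hy with rfl | rfl <;> rcases hy' with rfl | rfl
    exacts [rfl, absurd k' (h z hz k).1, absurd k (h z hz k').1, rfl]
  · intro y hy z hz k g hg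
    simp only [Finset.mem_insert, Finset.mem_singleton] at hy
    refine ⟨H, Finset.mem_singleton_self _, ?_⟩
    rcases hy with rfl | rfl
    exacts [(h z hz k).2 g hg, h' z hz k g hg]
  · simp [hne]

theorem s4 : ¬ ∃ 𝓐 : Finset (Subgroup (Perm (Fin 4))),
    ((∀ A ∈ 𝓐, A ≠ ⊤) ∧ (∀ g : Perm (Fin 4), ∃ A ∈ 𝓐, g ∈ A)) ∧
      (∀ 𝓑 : Finset (Subgroup (Perm (Fin 4))), (∀ A ∈ 𝓑, A ≠ ⊤) ∧ (∀ g : Perm (Fin 4), ∃ A ∈ 𝓑, g ∈ A) →
        𝓐.card ≤ 𝓑.card) ∧ (∀ A ∈ 𝓐, Group.IsNilpotent ↥A) := by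
  refine small (alternatingGroup (Fin 4))
    (fun h => by
      have := h ▸ Subgroup.mem_top (Equiv.swap (0 : Fin 4) 1)
      simp [Perm.mem_alternatingGroup] at this)
    (Equiv.swap 0 1 * Equiv.swap 1 2) (Equiv.swap 1 2 * Equiv.swap 2 3) (by decide) (by decide) (by decide) ?_ ?_
  all_goals
    simp only [Perm.mem_alternatingGroup, commute_iff_eq]
    decide +kernel

theorem a5 : ¬ ∃ 𝓐 : Finset (Subgroup ↥(alternatingGroup (Fin 5))),
    ((∀ A ∈ 𝓐, A ≠ ⊤) ∧ (∀ g : ↥(alternatingGroup (Fin 5)), ∃ A ∈ 𝓐, g ∈ A)) ∧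
      (∀ 𝓑 : Finset (Subgroup ↥(alternatingGroup (Fin 5))),
        (∀ A ∈ 𝓑, A ≠ ⊤) ∧ (∀ g : ↥(alternatingGroup (Fin 5)), ∃ A ∈ 𝓑, g ∈ A) →
          𝓐.card ≤ 𝓑.card) ∧ (∀ A ∈ 𝓐, Group.IsNilpotent ↥A) := by
  refine small ((MulAction.stabilizer (Perm (Fin 5)) (4 : Fin 5)).subgroupOf (alternatingGroup (Fin 5)))
    (fun h => by
      have := h ▸ Subgroup.mem_top (⟨Equiv.swap 4 3 * Equiv.swap 0 1, Perm.mem_alternatingGroup.mpr (by decide)⟩ : ↥(alternatingGroup (Fin 5)))
      simp [Subgroup.mem_subgroupOf, MulAction.mem_stabilizer_iff] at this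
      revert this
      decide)
    ⟨Equiv.swap 0 1 * Equiv.swap 1 2, Perm.mem_alternatingGroup.mpr (by decide)⟩ ⟨Equiv.swap 0 1 * Equiv.swap 1 3, Perm.mem_alternatingGroup.mpr (by decide)⟩
    (by decide) (by decide) (by decide) ?_ ?_
  all_goals
    simp only [Subgroup.mem_subgroupOf, MulAction.mem_stabilizer_iff, Perm.smul_def, commute_iff_eq]
    decide +kernel

theorem sign_extend (a : ℕ) [NeZero a] (π : Perm (ZMod a)) (h : π ^ a = 1) (ha : Odd a) : Perm.sign π = 1 := by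
  have h1 : Perm.sign π ^ a = 1 := by rw [← map_pow, h, map_one]
  rcases Int.units_eq_one_or (Perm.sign π) with e | e
  · exact e
  · rw [e, ha.neg_one_pow] at h1
    exact absurd h1 (by decide)

theorem sym (n : ℕ) (hn : 5 ≤ n) : ¬ ∃ 𝓐 : Finset (Subgroup (Perm (Fin n))),
    ((∀ A ∈ 𝓐, A ≠ ⊤) ∧ (∀ g : Perm (Fin n), ∃ A ∈ 𝓐, g ∈ A)) ∧
      (∀ 𝓑 : Finset (Subgroup (Perm (Fin n))), (∀ A ∈ 𝓑, A ≠ ⊤) ∧ (∀ g : Perm (Fin n), ∃ A ∈ 𝓑, g ∈ A) →
        𝓐.card ≤ 𝓑.card) ∧ (∀ A ∈ 𝓐, Group.IsNilpotent ↥A) := by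
  obtain ⟨a, rfl⟩ : ∃ a, n = a + 1 := ⟨n - 1, by omega⟩
  haveI : NeZero a := ⟨by omega⟩
  let e : Fin (a + 1) ≃ ZMod a ⊕ Fin 1 := Fintype.equivOfCardEq (by simp)
  let ι : Perm (Fin (a + 1)) →* Perm (ZMod a ⊕ Fin 1) := e.permCongrHom.toMonoidHom
  have hι : Function.Injective ι := e.permCongrHom.injective
  have hs : ∀ p, ι (e.permCongrHom.symm p) = p := e.permCongrHom.apply_symm_apply
  refine no_cover (by omega) ι hι (hs rot) (hs (tw * rot * tw)) ?_
    (w := e.permCongrHom.symm (Equiv.swap (Sum.inr 0) (Sum.inl 0))) (s0 := 0) (i0 := 0)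
    (by rw [hs, Equiv.swap_apply_left])
  intro z π _ _ h s
  obtain ⟨s', hs'⟩ := h s
  rw [hs', Subsingleton.elim s' s]

theorem alt (n : ℕ) (hn : 6 ≤ n) : ¬ ∃ 𝓐 : Finset (Subgroup ↥(alternatingGroup (Fin n))),
    ((∀ A ∈ 𝓐, A ≠ ⊤) ∧ (∀ g : ↥(alternatingGroup (Fin n)), ∃ A ∈ 𝓐, g ∈ A)) ∧
      (∀ 𝓑 : Finset (Subgroup ↥(alternatingGroup (Fin n))),
        (∀ A ∈ 𝓑, A ≠ ⊤) ∧ (∀ g : ↥(alternatingGroup (Fin n)), ∃ A ∈ 𝓑, g ∈ A) →
          𝓐.card ≤ 𝓑.card) ∧ (∀ A ∈ 𝓐, Group.IsNilpotent ↥A) := by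
  obtain ⟨a, b, rfl, hao, hb, hb2⟩ : ∃ a b, n = a + b ∧ Odd a ∧ 0 < b ∧ b ≤ 2 := by
    rcases Nat.even_or_odd n with h | h
    · exact ⟨n - 1, 1, by omega, Nat.Even.sub_odd (by omega) h odd_one, by omega, by omega⟩
    · exact ⟨n - 2, 2, by omega, Nat.Odd.sub_even (by omega) h even_two, by omega, by omega⟩
  haveI : NeZero a := ⟨by omega⟩
  haveI : NeZero b := ⟨by omega⟩
  let e : Fin (a + b) ≃ ZMod a ⊕ Fin b := Fintype.equivOfCardEq (by simp)
  let ι : ↥(alternatingGroup (Fin (a + b))) →* Perm (ZMod a ⊕ Fin b) :=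
    e.permCongrHom.toMonoidHom.comp (alternatingGroup (Fin (a + b))).subtype
  have hι : Function.Injective ι := e.permCongrHom.injective.comp Subtype.val_injective
  have hsign : ∀ z, Perm.sign (ι z) = 1 := fun z => by
    show Perm.sign (e.permCongr z.1) = 1
    rw [Perm.sign_permCongr]
    exact z.2
  have lift : ∀ p : Perm (ZMod a ⊕ Fin b), Perm.sign p = 1 → ∃ g, ι g = p := fun p hp => by
    refine ⟨⟨e.permCongrHom.symm p, ?_⟩, e.permCongrHom.apply_symm_apply p⟩
    rw [Perm.mem_alternatingGroup]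
    show Perm.sign (e.symm.permCongr p) = 1
    rw [Perm.sign_permCongr, hp]
  have hrot : Perm.sign (rot : Perm (ZMod a ⊕ Fin b)) = 1 := by
    rw [rot, Perm.sign_sumCongr, sign_extend a _ (addRight_pow 1) hao, Perm.sign_refl, one_mul]
  obtain ⟨x, hx⟩ := lift rot hrot
  obtain ⟨x', hx'⟩ := lift (tw * rot * tw) (by rw [map_mul, map_mul, hrot, mul_one, Int.units_mul_self])
  have h12 : (1 : ZMod a) ≠ 2 := fun e1 => by
    have : ((1 : ℕ) : ZMod a) = 0 := by rw [Nat.cast_one]; linear_combination -e1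
    exact one_ne (by omega) 1 (by norm_num) (by norm_num) this
  obtain ⟨w, hw⟩ := lift (Equiv.swap (Sum.inr 0) (Sum.inl 0) * Equiv.swap (Sum.inl 1) (Sum.inl 2)) (by
    rw [map_mul, Perm.sign_swap (by simp), Perm.sign_swap (by simpa using h12)]; rfl)
  refine no_cover (by omega) ι hι hx hx' ?_ (w := w) (s0 := 0) (i0 := 0) ?_
  · intro z π hπ hl hr s
    obtain ⟨s', hs'⟩ := hr s
    choose f hf using hr
    have hfi : Function.Injective f := fun s t h => Sum.inr_injective ((ι z).injective (by rw [hf s, hf t, h]))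
    let τ : Perm (Fin b) := Equiv.ofBijective f (Finite.injective_iff_bijective.mp hfi)
    have hz : ι z = Equiv.sumCongr π τ := by
      ext p
      rcases p with i | t
      · exact hl i
      · exact hf t
    have h1 : Perm.sign τ = 1 := by
      have := hsign z
      rwa [hz, Perm.sign_sumCongr, sign_extend a π hπ hao, one_mul] at this
    have hτ : τ = 1 := by
      interval_cases b
      · exact Subsingleton.elim _ _
      · revert h1
        generalize τ = σ
        revert σ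
        decide
    rw [hz, hτ]
    rfl
  · rw [hw, Perm.mul_apply, show Equiv.swap (Sum.inl 1 : ZMod a ⊕ Fin b) (Sum.inl 2) (Sum.inr 0) = Sum.inr 0 from
      Equiv.swap_apply_of_ne_of_ne (by simp) (by simp), Equiv.swap_apply_left]

end Cfsg.Agent.AltNoNilCover
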